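import Groth.Agent.ZClosLib.HomIdeal
import Groth.Agent.ZClosLib.HeightOneHull

/-!
# Flat modules over normal Noetherian domains are closed along ideals of height at least two
-/

set_option autoImplicit false

universe u

open TensorProduct

namespace Groth.Agent.FlatHull19

open ZClosLib.HomIdeal

/-- Closedness passes from the ring to flat modules. -/
theorem idealClosed_of_flat {A : Type u} [CommRing A] [IsNoetherianRing A] {I : Ideal A}
    (h : IdealClosed I A) (M : Type u) [AddCommGroup M] [Module A M] [Module.Flat A M] :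
    IdealClosed I M := by
  obtain ⟨n, g, hg⟩ := Submodule.fg_iff_exists_fin_generating_family.mp (IsNoetherian.noetherian I)
  obtain ⟨m, k, hk⟩ := Submodule.fg_iff_exists_fin_generating_family.mp
    (IsNoetherian.noetherian (LinearMap.ker (Fintype.linearCombination A g)))
  have hk0 : ∀ j, ∑ i, k j i * g i = 0 := fun j => by
    have : k j ∈ LinearMap.ker (Fintype.linearCombination A g) := hk ▸ Submodule.subset_span ⟨j, rfl⟩
    simpa [Fintype.linearCombination_apply] using this
  obtain ⟨h0, h1⟩ := h.exact (k := k) hg hk0 fun c hc => hk.symm ▸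
    (by simpa [Fintype.linearCombination_apply] using hc :
      c ∈ LinearMap.ker (Fintype.linearCombination A g))
  let e₀ : M ⊗[A] A ≃ₗ[A] M := TensorProduct.rid A M
  let e₁ : M ⊗[A] (Fin n → A) ≃ₗ[A] (Fin n → M) :=
    (TensorProduct.piRight A A M fun _ => A) ≪≫ₗ LinearEquiv.piCongrRight fun _ => e₀
  let e₂ : M ⊗[A] (Fin m → A) ≃ₗ[A] (Fin m → M) :=
    (TensorProduct.piRight A A M fun _ => A) ≪≫ₗ LinearEquiv.piCongrRight fun _ => e₀
  have c₀ : d0 M g ∘ₗ e₀.toLinearMap = e₁.toLinearMap ∘ₗ (d0 A g).lTensor M := by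
    refine TensorProduct.ext' fun s x => funext fun i => ?_
    simp [e₁, e₀, d0_apply, smul_smul]
  have c₁ : d1 M k ∘ₗ e₁.toLinearMap = e₂.toLinearMap ∘ₗ (d1 A k).lTensor M := by
    refine TensorProduct.ext' fun s x => funext fun j => ?_
    simp [e₁, e₂, e₀, d1_apply, Finset.sum_smul, smul_smul]
  refine idealClosed_of_exact hg hk0 ?_ ?_
  · have hinj : Function.Injective (e₁.toLinearMap ∘ₗ (d0 A g).lTensor M) :=
      e₁.injective.comp (Module.Flat.lTensor_preserves_injective_linearMap _ h0)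
    rw [← c₀] at hinj
    exact (Function.Injective.of_comp_iff' (d0 M g) e₀.bijective).mp hinj
  · exact (Function.Exact.of_ladder_linearEquiv_of_exact (e₁ := e₀) (e₂ := e₁) (e₃ := e₂) c₀ c₁
      (Module.Flat.lTensor_exact M h1) :)

/-- A normal Noetherian domain is closed along any ideal contained in no prime of height at most one. -/
theorem idealClosed_self {A : Type u} [CommRing A] [IsDomain A] [IsNoetherianRing A]
    [IsIntegrallyClosed A] {I : Ideal A} (hI : ∀ p : Ideal A, p.IsPrime → p.height ≤ 1 → ¬ I ≤ p) :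
    IdealClosed I A := by
  obtain ⟨a, ha, ha0⟩ : ∃ a ∈ I, a ≠ 0 := by
    by_contra h
    push Not at h
    exact hI ⊥ Ideal.isPrime_bot (by rw [Ideal.height_bot]; exact bot_le) fun x hx => h x hx
  refine ⟨fun m hm => (mul_eq_zero.mp (hm a ha)).resolve_left ha0, fun φ => ?_⟩
  have hcross : ∀ b : I, a * φ b = (b : A) * φ ⟨a, ha⟩ := fun b => by
    rw [← smul_eq_mul, ← smul_eq_mul, ← map_smul, ← map_smul]
    exact congrArg φ (Subtype.ext (mul_comm a (b : A)))
  obtain ⟨m, hm⟩ : a ∣ φ ⟨a, ha⟩ := by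
    by_contra hna
    let x : A ⧸ Ideal.span {a} := Ideal.Quotient.mk _ (φ ⟨a, ha⟩)
    have hx : x ≠ 0 := fun h => hna (Ideal.mem_span_singleton.mp (Ideal.Quotient.eq_zero_iff_mem.mp h))
    obtain ⟨p, hp, hle⟩ := exists_le_isAssociatedPrime_of_isNoetherianRing A x hx
    have hp1 := ZClosLib.HeightOneHull.height_eq_one_of_mem_associatedPrimes ha0 hp
    refine hI p hp.1 hp1.le fun b hb => hle (Submodule.mem_colon_singleton.mpr ?_)
    rw [Submodule.mem_bot, Algebra.smul_def, Ideal.Quotient.algebraMap_eq, ← map_mul,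
      Ideal.Quotient.eq_zero_iff_mem, Ideal.mem_span_singleton]
    exact ⟨_, (hcross ⟨b, hb⟩).symm⟩
  exact ⟨m, fun b => mul_left_cancel₀ ha0 (by rw [hcross b, hm, smul_eq_mul]; ring)⟩

end Groth.Agent.FlatHull19
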