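import Groth.Agent.FlatHull19.Alg
import Groth.Agent.ZClosLib.StalkCrit
import Groth.Agent.WeilExt.Diag
import Groth.Agent.HomShQC.Stalk
import Groth.Agent.HomShEval.Reflexive
import Groth.Agent.Props.SubSheaf
import Groth.Agent.S7862
import Groth.Prelude.Def_RefHull

/-!
# The bidual of a finite type submodule of a flat quasi-coherent module on a normal scheme
-/

set_option autoImplicit false
set_option linter.style.haveILetI false

universe u

open CategoryTheory CategoryTheory.Limits AlgebraicGeometry TopologicalSpace Opposite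

namespace Groth.Agent.FlatHull19

open ZClosLib.HomIdeal ZClosLib.StalkCrit Groth.Agent.PullStalk.Sky Groth.Agent.PullStalk.Exact

/-- Closedness passes to duals. -/
theorem idealClosed_dual {A : Type u} [CommRing A] {I : Ideal A} (h : IdealClosed I A)
    (M : Type u) [AddCommGroup M] [Module A M] : IdealClosed I (Module.Dual A M) := by
  refine ⟨fun f hf => LinearMap.ext fun m => h.1 _ fun a ha => ?_, fun φ => ?_⟩
  · exact LinearMap.congr_fun (hf a ha) m
  choose x hx using fun m => h.2 ((LinearMap.applyₗ m) ∘ₗ φ)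
  refine ⟨{ toFun := x
            map_add' := fun m m' => ?_
            map_smul' := fun r m => ?_ }, fun a => LinearMap.ext fun m => hx m a⟩
  · refine sub_eq_zero.mp (h.1 _ fun a ha => ?_)
    have e1 : φ ⟨a, ha⟩ (m + m') = a • x (m + m') := hx _ ⟨a, ha⟩
    have e2 : φ ⟨a, ha⟩ m = a • x m := hx _ ⟨a, ha⟩
    have e3 : φ ⟨a, ha⟩ m' = a • x m' := hx _ ⟨a, ha⟩
    rw [smul_sub, smul_add, ← e1, ← e2, ← e3, map_add, sub_self]
  · refine sub_eq_zero.mp (h.1 _ fun a ha => ?_)
    have e1 : φ ⟨a, ha⟩ (r • m) = a • x (r • m) := hx _ ⟨a, ha⟩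
    have e2 : φ ⟨a, ha⟩ m = a • x m := hx _ ⟨a, ha⟩
    rw [RingHom.id_apply, smul_sub, smul_comm a r, ← e1, ← e2, map_smul, sub_self]

/-- Closedness is invariant under isomorphisms of modules. -/
theorem idealClosed_of_equiv {A : Type u} [CommRing A] {I : Ideal A} {M N : Type u} [AddCommGroup M]
    [Module A M] [AddCommGroup N] [Module A N] (e : M ≃ₗ[A] N) (h : IdealClosed I N) :
    IdealClosed I M := by
  refine ⟨fun m hm => e.map_eq_zero_iff.mp (h.1 _ fun a ha => by rw [← map_smul, hm a ha, map_zero]),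
    fun φ => ?_⟩
  obtain ⟨n, hn⟩ := h.2 (e.toLinearMap ∘ₗ φ)
  exact ⟨e.symm n, fun a => e.injective (by rw [map_smul, e.apply_symm_apply]; exact hn a)⟩

variable {X : Scheme.{u}}

/-- On a normal locally Noetherian scheme the structure sheaf is closed along a closed subset avoiding
the points of codimension at most one. -/
theorem idealClosed_stalkIdeal [IsLocallyNoetherian X] (hX : Pi1.IsNormalScheme X) (T : Closeds X)
    (hT : ∀ x : X, ringKrullDim (X.presheaf.stalk x) ≤ 1 → x ∉ T) (y : X) :
    IdealClosed (stalkIdeal T y) (X.presheaf.stalk y) := by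
  haveI := (hX y).1
  haveI := (hX y).2
  refine idealClosed_self fun p hp hp1 hle => ?_
  let q : PrimeSpectrum (X.presheaf.stalk y) := ⟨p, hp⟩
  have hq : q ∈ stalkPt y ⁻¹' (T : Set X) := by
    have h : q ∈ PrimeSpectrum.zeroLocus (stalkIdeal T y : Set (X.presheaf.stalk y)) := hle
    rw [stalkIdeal, PrimeSpectrum.zeroLocus_vanishingIdeal_eq_closure] at h
    exact (T.isClosed.preimage (X.fromSpecStalk y).continuous).closure_subset h
  exact hT _ ((WeilExt.ringKrullDim_stalk_fromSpecStalk y q).le.trans (WithBot.coe_le_coe.mpr hp1)) hq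

/-- A finite type submodule of a quasi-coherent module is quasi-coherent. -/
theorem isQuasicoherent_of_mono {F A : X.Modules} [A.IsQuasicoherent] (φ : F ⟶ A) [Mono φ]
    (hF : CohB1.IsFT F) : F.IsQuasicoherent := by
  let S : Props.SubMod.StalkSub A := fun x => LinearMap.range (stalkLin φ x)
  have hS : Props.SubMod.FTOn S ⊤ := fun x _ => by
    obtain ⟨U, hxU, n, s, hs⟩ := HomShEval.exists_span_germ F hF x
    obtain ⟨_, ⟨V, hV, rfl⟩, hxV, hVU⟩ :=
      X.isBasis_affineOpens.exists_subset_of_mem_open (show x ∈ (U : Set X) from hxU) U.isOpen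
    classical
    refine ⟨V, hV, hxV, le_top, Finset.univ.image fun i => φ.app V (QCoh.res F hVU (s i)), fun y hy => ?_⟩
    show LinearMap.range (stalkLin φ y) = _
    rw [← Submodule.map_top, ← hs y (hVU hy), Submodule.map_span, Props.SubMod.spanGerm, Finset.coe_image,
      Finset.coe_univ, Set.image_univ, ← Set.range_comp, ← Set.range_comp]
    refine congrArg (Submodule.span _) (congrArg Set.range (funext fun i => ?_))
    simp only [Function.comp_apply]
    rw [← stalkLin_germ]
    exact congrArg (stalkLin φ y) (F.presheaf.germ_res_apply (homOfLE hVU) y hy (s i)).symm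
  have hlift : φ ≫ Props.SubSheaf.toQuot S = 0 := by
    refine Limits.Pi.hom_ext _ _ fun y => ?_
    rw [Category.assoc, Props.SubSheaf.toQuot, Pi.lift_π, zero_comp]
    refine Scheme.Modules.hom_ext _ _ fun V => ?_
    ext m
    funext hy
    refine (toSky_app (S y).mkQ V (φ.app V m) hy).trans ((Submodule.Quotient.mk_eq_zero (S y)).mpr ?_)
    exact ⟨germM F V y hy.down m, stalkLin_germ φ V y hy.down m⟩
  let ψ : F ⟶ Props.SubSheaf.sub S := kernel.lift _ φ hlift
  have hψ : ψ ≫ Props.SubSheaf.incl S = φ := kernel.lift_ι _ _ _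
  haveI : Mono ψ := mono_of_mono_fac hψ
  haveI : IsIso ψ := by
    refine Omega.Stalks.isIso_of_stalk fun y => ⟨Omega.Stalks.stalkLin_injective_of_mono ψ y, fun t => ?_⟩
    obtain ⟨V, hy, a, rfl⟩ := exists_germM_eq (Props.SubSheaf.sub S) y t
    obtain ⟨v, hv⟩ := (Props.SubSheaf.mem_range_incl S _).mp ⟨a, rfl⟩ y hy
    refine ⟨v, Omega.Stalks.stalkLin_injective_of_mono (Props.SubSheaf.incl S) y ?_⟩
    obtain ⟨W, hyW, m, rfl⟩ := exists_germM_eq F y v
    rw [stalkLin_germ, stalkLin_germ, stalkLin_germ]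
    rw [stalkLin_germ] at hv
    rw [← hv, ← hψ]
    rfl
  haveI := Props.SubSheaf.isQuasicoherent_sub hS
  exact (SheafOfModules.isQuasicoherent X.ringCatSheaf).prop_of_iso (asIso ψ).symm inferInstance

/-- A morphism bijective on the stalks over an open is an isomorphism there. -/
theorem isIso_restrict_of_stalk {F G : X.Modules} (f : F ⟶ G) (U : X.Opens)
    (h : ∀ x ∈ U, Function.Bijective (RefHull.stalkMapₗ f x)) :
    IsIso ((Scheme.Modules.restrictFunctor U.ι).map f) := by
  refine Scheme.Modules.Hom.isIso_iff_isIso_app.mpr fun W => (ConcreteCategory.isIso_iff_bijective _).mpr ?_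
  have hW : ∀ x, x ∈ U.ι ''ᵁ W → x ∈ U := by
    rintro x ⟨z, -, rfl⟩
    exact z.2
  let FM : TopCat.Sheaf AddCommGrpCat.{u} X := ⟨F.presheaf, F.isSheaf⟩
  let FD : TopCat.Sheaf AddCommGrpCat.{u} X := ⟨G.presheaf, G.isSheaf⟩
  let φ : FM ⟶ FD := ⟨f.mapPresheaf⟩
  exact ⟨TopCat.Presheaf.app_injective_of_stalkFunctor_map_injective (F := FM) φ.1 (U.ι ''ᵁ W)
      fun x hx => (h x (hW x hx)).1,
    TopCat.Presheaf.app_surjective_of_stalkFunctor_map_bijective φ (U.ι ''ᵁ W)
      fun x hx => h x (hW x hx)⟩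

/-- The bidual of a finite type submodule of a flat quasi-coherent module on a normal Noetherian
scheme is the direct image from its flatness locus. -/
theorem exists_ddual_iso [IsLocallyNoetherian X] (hX : Pi1.IsNormalScheme X) {A F : X.Modules}
    [A.IsQuasicoherent] (hA : FlatMod.IsFlat A) (φ : F ⟶ A) [Mono φ] (hF : CohB1.IsFT F) (U : X.Opens)
    (hU : (U : Set X) = {x : X | FlatMod.IsFlatAt F x}) :
    ∃ e : RefHull.ddual F ≅ (Scheme.Modules.pushforward U.ι).obj (F.restrict U.ι),
      RefHull.bidualMap F ≫ e.hom = (Scheme.Modules.restrictAdjunction U.ι).unit.app F := by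
  have hFc : Coh.IsCoh F := ⟨isQuasicoherent_of_mono φ hF, hF⟩
  have hDc : Coh.IsCoh (RefHull.dual F) := HomShQC.isCoh_dual F hFc
  have hDDc : Coh.IsCoh (RefHull.ddual F) := HomShQC.isCoh_dual _ hDc
  haveI : (RefHull.ddual F).IsQuasicoherent := hDDc.1
  have hdim : ∀ x : X, ringKrullDim (X.presheaf.stalk x) ≤ 1 → x ∈ U := fun x hx => by
    rw [← SetLike.mem_coe, hU]
    haveI := (hX x).1
    haveI := (hX x).2
    haveI := HomShQC.finite_stalk F hF x
    haveI : Module.Flat (X.presheaf.stalk x) (A.presheaf.stalk x) := hA x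
    haveI : Module.IsTorsionFree (X.presheaf.stalk x) (F.presheaf.stalk x) :=
      (Omega.Stalks.stalkLin_injective_of_mono φ x).moduleIsTorsionFree _ (stalkLin φ x).map_smul
    haveI : Ring.KrullDimLE 1 (X.presheaf.stalk x) := Ring.krullDimLE_iff.mpr hx
    haveI := S7862.free_of_dim_le_one (X.presheaf.stalk x) (F.presheaf.stalk x)
    exact Module.Flat.of_free
  have hbij : ∀ x ∈ U, Function.Bijective (RefHull.stalkMapₗ (RefHull.bidualMap F) x) := fun x hx => by
    refine (HomShEval.Reflexive.bijective_stalkMap_bidualMap_iff F hFc x).mpr ?_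
    rw [← SetLike.mem_coe, hU] at hx
    haveI : Module.Flat (X.presheaf.stalk x) (F.presheaf.stalk x) := hx
    haveI := HomShQC.finite_stalk F hF x
    haveI : Module.Free (X.presheaf.stalk x) (F.presheaf.stalk x) := Module.free_of_flat_of_isLocalRing
    exact inferInstanceAs (Module.IsReflexive (X.presheaf.stalk x) (F.presheaf.stalk x))
  haveI hu : IsIso ((Scheme.Modules.restrictAdjunction U.ι).unit.app (RefHull.ddual F)) := by
    refine (ZClosLib.isIso_unit_iff (RefHull.ddual F) U).mpr fun V => ?_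
    let T : Closeds X := ⟨(U : Set X)ᶜ, U.isOpen.isClosed_compl⟩
    have hTU : T.compl = U := Opens.ext (compl_compl (U : Set X))
    suffices h : Function.Bijective (ZClosLib.resInf (RefHull.ddual F) T.compl V) from
      (congrArg (fun W => Function.Bijective (ZClosLib.resInf (RefHull.ddual F) W V)) hTU).mp h
    refine resInf_bijective T _ fun y _ => ?_
    exact idealClosed_of_equiv (HomShQC.dualEquiv (RefHull.dual F) (HomShQC.isFP_of_isCoh _ hDc) y)
      (idealClosed_dual (idealClosed_stalkIdeal hX T (fun x hx hxT => hxT (hdim x hx)) y) _)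
  haveI hres : IsIso ((Scheme.Modules.restrictFunctor U.ι).map (RefHull.bidualMap F)) :=
    isIso_restrict_of_stalk (RefHull.bidualMap F) U hbij
  refine ⟨asIso ((Scheme.Modules.restrictAdjunction U.ι).unit.app (RefHull.ddual F)) ≪≫
    (Scheme.Modules.pushforward U.ι).mapIso
      (asIso ((Scheme.Modules.restrictFunctor U.ι).map (RefHull.bidualMap F))).symm, ?_⟩
  simp only [Iso.trans_hom, asIso_hom, Functor.mapIso_hom, Iso.symm_hom, asIso_inv]
  have hn := (Scheme.Modules.restrictAdjunction U.ι).unit.naturality (RefHull.bidualMap F)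
  simp only [Functor.id_map, Functor.comp_map] at hn
  rw [← Category.assoc, hn, Category.assoc, ← Functor.map_comp, IsIso.hom_inv_id]
  refine Eq.trans ?_ (Category.comp_id _)
  exact congrArg _ (CategoryTheory.Functor.map_id _ _)

end Groth.Agent.FlatHull19
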